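import Groth.Agent.Lib.UnivHomeoRing26.Basic
import Mathlib.FieldTheory.IsAlgClosed.AlgebraicClosure
import Mathlib.RingTheory.Ideal.GoingUp
import Mathlib.RingTheory.TensorProduct.Basic
import Mathlib.RingTheory.Nilpotent.Lemmas
import Mathlib.FieldTheory.PurelyInseparable.Basic

/-! # Weak normalisation inside an integral extension -/

universe u

open CategoryTheory AlgebraicGeometry TensorProduct

namespace Groth.Agent.UnivHomeoRing26

/-- A field-valued point of a subring extends along an integral extension, after closing the field. -/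
theorem exists_extend {E B : Type u} [CommRing E] [CommRing B] (ι : E →+* B) (hι : Function.Injective ι)
    (hint : ι.IsIntegral) {L : Type u} [Field L] [IsAlgClosed L] (g : E →+* L) :
    ∃ h : B →+* L, h.comp ι = g := by
  letI := ι.toAlgebra
  haveI : Algebra.IsIntegral E B := ⟨hint⟩
  haveI : FaithfulSMul E B := (faithfulSMul_iff_algebraMap_injective E B).2 hι
  haveI : (RingHom.ker g).IsPrime := RingHom.ker_isPrime g
  obtain ⟨Q, -, hQp, hQ⟩ := Ideal.exists_ideal_over_prime_of_isIntegral (RingHom.ker g) (⊥ : Ideal B)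
    (by rw [Ideal.comap_bot_of_injective _ (show Function.Injective (algebraMap E B) from hι)]; exact bot_le)
  haveI := hQp
  haveI : Q.LiesOver (RingHom.ker g) := ⟨hQ.symm⟩
  letI : Algebra (E ⧸ RingHom.ker g) L := (RingHom.kerLift g).toAlgebra
  haveI : Module.IsTorsionFree (E ⧸ RingHom.ker g) L := by
    haveI : FaithfulSMul (E ⧸ RingHom.ker g) L :=
      (faithfulSMul_iff_algebraMap_injective _ _).2 (RingHom.kerLift_injective g)
    infer_instance
  haveI : FaithfulSMul (E ⧸ RingHom.ker g) (B ⧸ Q) := inferInstance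
  haveI : Algebra.IsAlgebraic (E ⧸ RingHom.ker g) (B ⧸ Q) :=
    Algebra.IsIntegral.isAlgebraic
  let l : B ⧸ Q →ₐ[E ⧸ RingHom.ker g] L := IsAlgClosed.lift
  refine ⟨l.toRingHom.comp (Ideal.Quotient.mk Q), RingHom.ext fun e => ?_⟩
  show l (Ideal.Quotient.mk Q (algebraMap E B e)) = g e
  rw [show Ideal.Quotient.mk Q (algebraMap E B e) =
    algebraMap (E ⧸ RingHom.ker g) (B ⧸ Q) (Ideal.Quotient.mk _ e) from rfl, AlgHom.commutes]
  rfl

variable {A B : Type u} [CommRing A] [CommRing B] [Algebra A B]

variable (A B) in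
/-- The weak normalisation of `A` in `B`. -/
noncomputable def wn : Subalgebra A B :=
  AlgHom.equalizer
    ((Ideal.Quotient.mkₐ A (nilradical (B ⊗[A] B))).comp (Algebra.TensorProduct.includeLeft : B →ₐ[A] B ⊗[A] B))
    ((Ideal.Quotient.mkₐ A (nilradical (B ⊗[A] B))).comp (Algebra.TensorProduct.includeRight : B →ₐ[A] B ⊗[A] B))

theorem mem_wn {b : B} : b ∈ wn A B ↔ IsNilpotent (b ⊗ₜ[A] (1 : B) - (1 : B) ⊗ₜ[A] b) := by
  rw [← mem_nilradical, ← Ideal.Quotient.eq]
  exact AlgHom.mem_equalizer _ _ _

theorem isIntegral_subalgebra [Algebra.IsIntegral A B] (C : Subalgebra A B) : (algebraMap A C).IsIntegral :=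
  fun c => (isIntegral_algHom_iff C.val Subtype.val_injective).1 (Algebra.IsIntegral.isIntegral (c : B))

theorem isUnivHomeo_wn (hinj : Function.Injective (algebraMap A B)) [Algebra.IsIntegral A B] :
    FlatMor.IsUnivHomeo (Spec.map (CommRingCat.ofHom (algebraMap A (wn A B)))) := by
  have hint := isIntegral_subalgebra (wn A B)
  refine isUnivHomeo_of _ hint (hint.comap_surjective fun a b e => hinj (congrArg Subtype.val e)) ?_
  intro L _ g g' he
  let Lb := AlgebraicClosure L
  let i := algebraMap L Lb
  have hintB : (wn A B).val.toRingHom.IsIntegral := fun b => by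
    refine RingHom.IsIntegralElem.of_comp (f := algebraMap A (wn A B)) ?_
    exact Algebra.IsIntegral.isIntegral (R := A) b
  obtain ⟨h, hh⟩ := exists_extend _ Subtype.val_injective hintB (i.comp g)
  obtain ⟨h', hh'⟩ := exists_extend _ Subtype.val_injective hintB (i.comp g')
  have hA : ∀ a, h (algebraMap A B a) = h' (algebraMap A B a) := fun a =>
    (RingHom.congr_fun hh (algebraMap A (wn A B) a)).trans
      ((congrArg i (RingHom.congr_fun he a)).trans (RingHom.congr_fun hh' (algebraMap A (wn A B) a)).symm)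
  letI : Algebra A Lb := (h.comp (algebraMap A B)).toAlgebra
  let k₁ : B →ₐ[A] Lb := { h with commutes' := fun _ => rfl }
  let k₂ : B →ₐ[A] Lb := { h' with commutes' := fun a => (hA a).symm }
  refine RingHom.ext fun e => i.injective ?_
  have h0 := (mem_wn.1 e.2).map (Algebra.TensorProduct.lift k₁ k₂ fun _ _ => Commute.all _ _)
  rw [map_sub, Algebra.TensorProduct.lift_tmul, Algebra.TensorProduct.lift_tmul, map_one, map_one, mul_one,
    one_mul, isNilpotent_iff_eq_zero, sub_eq_zero] at h0
  exact ((RingHom.congr_fun hh e).symm.trans (h0 : h e = h' e)).trans (RingHom.congr_fun hh' e)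

theorem le_wn (C : Subalgebra A B) (hC : FlatMor.IsUnivHomeo (Spec.map (CommRingCat.ofHom (algebraMap A C)))) :
    C ≤ wn A B := by
  intro c hc
  rw [mem_wn, nilpotent_iff_mem_prime]
  intro P hP
  haveI := hP
  let π : B ⊗[A] B →+* P.ResidueField := algebraMap (B ⊗[A] B) P.ResidueField
  let l : C →+* P.ResidueField :=
    π.comp (((Algebra.TensorProduct.includeLeft : B →ₐ[A] B ⊗[A] B).comp C.val).toRingHom)
  let r : C →+* P.ResidueField :=
    π.comp (((Algebra.TensorProduct.includeRight : B →ₐ[A] B ⊗[A] B).comp C.val).toRingHom)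
  have e := hom_ext_field hC P.ResidueField l r (RingHom.ext fun a => congrArg π
    ((AlgHom.commutes ((Algebra.TensorProduct.includeLeft : B →ₐ[A] B ⊗[A] B).comp C.val) a).trans
      (AlgHom.commutes ((Algebra.TensorProduct.includeRight : B →ₐ[A] B ⊗[A] B).comp C.val) a).symm))
  have := RingHom.congr_fun e ⟨c, hc⟩
  refine Ideal.algebraMap_residueField_eq_zero.1 ?_
  rw [map_sub]
  exact sub_eq_zero.2 this

theorem exists_pow_mem_range_map {C : Type u} [CommRing C] {φ : A →+* C}
    (hφ : FlatMor.IsUnivHomeo (Spec.map (CommRingCat.ofHom φ))) (Q : PrimeSpectrum C) (x : Q.asIdeal.ResidueField) :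
    ∃ n : ℕ, x ^ ringExpChar (PrimeSpectrum.comap φ Q).asIdeal.ResidueField ^ n ∈
      Set.range (Ideal.ResidueField.map (PrimeSpectrum.comap φ Q).asIdeal Q.asIdeal φ rfl) := by
  haveI : UniversallyInjective (Spec.map (CommRingCat.ofHom φ)) :=
    ⟨MorphismProperty.universally_mono (fun _ _ f hf => IsHomeomorph.injective hf) _ hφ⟩
  let K := (PrimeSpectrum.comap φ Q).asIdeal.ResidueField
  letI : Algebra K Q.asIdeal.ResidueField := (Ideal.ResidueField.map _ _ φ rfl).toAlgebra
  -- two embeddings over the residue field below agree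
  haveI : IsPurelyInseparable K Q.asIdeal.ResidueField := by
    haveI : Algebra.IsAlgebraic K Q.asIdeal.ResidueField := by
      haveI : Algebra.IsIntegral K Q.asIdeal.ResidueField := by
        refine ⟨fun z => ?_⟩
        obtain ⟨a, b, -, rfl⟩ := IsFractionRing.div_surjective (C ⧸ Q.asIdeal) z
        have hel : ∀ w : C ⧸ Q.asIdeal, IsIntegral K (algebraMap (C ⧸ Q.asIdeal) Q.asIdeal.ResidueField w) := by
          intro w
          obtain ⟨w, rfl⟩ := Ideal.Quotient.mk_surjective w
          obtain ⟨p, hp, he⟩ := isIntegral_of hφ w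
          refine ⟨p.map (algebraMap A K), hp.map _, ?_⟩
          rw [Polynomial.eval₂_map, show (algebraMap K Q.asIdeal.ResidueField).comp (algebraMap A K) =
            (algebraMap C Q.asIdeal.ResidueField).comp φ from RingHom.ext fun a =>
              Ideal.ResidueField.map_algebraMap _ _ φ rfl a]
          have := congrArg (algebraMap C Q.asIdeal.ResidueField) he
          rwa [Polynomial.hom_eval₂, map_zero] at this
        exact (hel a).mul (IsIntegral.inv (hel b)) |> fun h => by rwa [div_eq_mul_inv]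
      exact Algebra.IsIntegral.isAlgebraic
    rw [isPurelyInseparable_iff_subsingleton_emb]
    refine ⟨fun σ τ => ?_⟩
    have e := hom_ext_field hφ (AlgebraicClosure Q.asIdeal.ResidueField)
      (σ.toRingHom.comp (algebraMap C Q.asIdeal.ResidueField))
      (τ.toRingHom.comp (algebraMap C Q.asIdeal.ResidueField)) (RingHom.ext fun a => by
        show σ (algebraMap C _ (φ a)) = τ (algebraMap C _ (φ a))
        rw [← Ideal.ResidueField.map_algebraMap (PrimeSpectrum.comap φ Q).asIdeal Q.asIdeal φ rfl a]
        exact (σ.commutes _).trans (τ.commutes _).symm)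
    exact AlgHom.coe_ringHom_injective (Ideal.ResidueField.ringHom_ext e)
  exact IsPurelyInseparable.pow_mem K (ringExpChar K) x

theorem map_comp_map {R S T : Type u} [CommRing R] [CommRing S] [CommRing T] (I : Ideal R) [I.IsPrime]
    (J : Ideal S) [J.IsPrime] (K : Ideal T) [K.IsPrime] (f : R →+* S) (g : S →+* T) (h : R →+* T)
    (hf : I = J.comap f) (hg : J = K.comap g) (hh : I = K.comap h) (e : ∀ r, g (f r) = h r) :
    (Ideal.ResidueField.map J K g hg).comp (Ideal.ResidueField.map I J f hf) =
      Ideal.ResidueField.map I K h hh :=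
  Ideal.ResidueField.ringHom_ext (RingHom.ext fun a => by
    simp only [RingHom.comp_apply, Ideal.ResidueField.map_algebraMap, e])

theorem residueFieldsIso_of_pi (C : Subalgebra A B)
    (hC : FlatMor.IsUnivHomeo (Spec.map (CommRingCat.ofHom (algebraMap A C))))
    (hpi : ∀ p : PrimeSpectrum A, ∃ q : PrimeSpectrum B, ∃ hq : p.asIdeal = Ideal.comap (algebraMap A B) q.asIdeal,
      ∀ x : q.asIdeal.ResidueField,
        (∃ n : ℕ, x ^ ringExpChar p.asIdeal.ResidueField ^ n ∈
            Set.range (Ideal.ResidueField.map p.asIdeal q.asIdeal (algebraMap A B) hq)) →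
        x ∈ Set.range (Ideal.ResidueField.map p.asIdeal q.asIdeal (algebraMap A B) hq))
    (Q : PrimeSpectrum C) :
    Function.Surjective
      (Ideal.ResidueField.map (PrimeSpectrum.comap (algebraMap A C) Q).asIdeal Q.asIdeal (algebraMap A C) rfl) := by
  obtain ⟨q, hq, hx⟩ := hpi (PrimeSpectrum.comap (algebraMap A C) Q)
  have hQ : Q = PrimeSpectrum.comap C.val.toRingHom q := (bijective_comap hC).1 (PrimeSpectrum.ext hq)
  subst hQ
  intro y
  let j := Ideal.ResidueField.map (PrimeSpectrum.comap C.val.toRingHom q).asIdeal q.asIdeal C.val.toRingHom rfl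
  have hcomp : j.comp (Ideal.ResidueField.map _ _ (algebraMap A C) rfl) =
      Ideal.ResidueField.map _ q.asIdeal (algebraMap A B) hq :=
    map_comp_map _ _ _ (algebraMap A C) C.val.toRingHom (algebraMap A B) _ _ _ fun _ => rfl
  obtain ⟨n, z, hz⟩ := exists_pow_mem_range_map hC _ y
  obtain ⟨w, hw⟩ := hx (j y) ⟨n, z, by rw [← map_pow, ← hz]; exact (RingHom.congr_fun hcomp z).symm⟩
  exact ⟨w, j.injective ((RingHom.congr_fun hcomp w).trans hw)⟩

end Groth.Agent.UnivHomeoRing26
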