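import Groth.Agent.Lib.UnivHomeoRing26.Subalg
import Groth.Prelude.Def_HTop2
import Mathlib.RingTheory.TensorProduct.Basic
import Mathlib.Algebra.Ring.Pi

/-! # Existence of the absolute weak normalisation of a ring

It is the union of the images of all universal homeomorphisms in the product of the algebraic closures
of the residue fields. -/

universe u

open CategoryTheory AlgebraicGeometry TensorProduct

namespace Groth.Agent.UnivHomeoRing26

variable {A : Type u} [CommRing A]

/-- Points with values in an algebraically closed field lift along universal homeomorphisms. -/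
theorem exists_lift_point {C : Type u} [CommRing C] {ψ : A →+* C}
    (hψ : FlatMor.IsUnivHomeo (Spec.map (CommRingCat.ofHom ψ))) {L : Type u} [Field L] [IsAlgClosed L]
    (g : A →+* L) : ∃ h : C →+* L, h.comp ψ = g := by
  haveI : (RingHom.ker g).IsPrime := RingHom.ker_isPrime g
  obtain ⟨Q, hQ⟩ := (bijective_comap hψ).2 ⟨RingHom.ker g, ‹_›⟩
  have hle : RingHom.ker ψ ≤ RingHom.ker g := by
    intro a ha
    have : a ∈ (PrimeSpectrum.comap ψ Q).asIdeal := by
      show ψ a ∈ Q.asIdeal
      rw [RingHom.mem_ker.1 ha]; exact zero_mem _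
    rwa [hQ] at this
  obtain ⟨h, hh⟩ := exists_extend (RingHom.kerLift ψ) (RingHom.kerLift_injective ψ)
    (fun c => by
      obtain ⟨p, hp, he⟩ := isIntegral_of hψ c
      refine ⟨p.map (Ideal.Quotient.mk _), hp.map _, ?_⟩
      rw [Polynomial.eval₂_map, show (RingHom.kerLift ψ).comp (Ideal.Quotient.mk _) = ψ from
        RingHom.ext fun a => RingHom.kerLift_mk ψ a]
      exact he)
    (Ideal.Quotient.lift (RingHom.ker ψ) g fun a ha => hle ha)
  refine ⟨h, RingHom.ext fun a => ?_⟩
  have := RingHom.congr_fun hh (Ideal.Quotient.mk _ a)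
  rw [RingHom.comp_apply, RingHom.kerLift_mk] at this
  exact this

/-- Criterion with points in algebraically closed fields. -/
theorem isUnivHomeo_of' {C : Type u} [CommRing C] (ψ : A →+* C) (hint : ψ.IsIntegral)
    (hex : ∀ (L : Type u) [Field L] [IsAlgClosed L] (g : A →+* L), ∃ h : C →+* L, h.comp ψ = g)
    (hinj : ∀ (L : Type u) [Field L] (g h : C →+* L), g.comp ψ = h.comp ψ → g = h) :
    FlatMor.IsUnivHomeo (Spec.map (CommRingCat.ofHom ψ)) := by
  refine isUnivHomeo_of ψ hint (fun p => ?_) hinj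
  obtain ⟨h, hh⟩ := hex (AlgebraicClosure p.asIdeal.ResidueField) (algebraMap A _)
  haveI := RingHom.ker_isPrime h
  refine ⟨⟨RingHom.ker h, ‹_›⟩, PrimeSpectrum.ext ?_⟩
  show (RingHom.ker h).comap ψ = p.asIdeal
  rw [RingHom.comap_ker, hh, IsScalarTower.algebraMap_eq A p.asIdeal.ResidueField,
    RingHom.ker_comp_of_injective _ (algebraMap p.asIdeal.ResidueField _).injective,
    Ideal.ker_algebraMap_residueField]

theorem isUnivHomeo_id : FlatMor.IsUnivHomeo (Spec.map (CommRingCat.ofHom (RingHom.id A))) :=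
  isUnivHomeo_of' _ (RingHom.isIntegral_of_surjective _ Function.surjective_id) (fun _ _ _ g => ⟨g, rfl⟩)
    fun _ _ _ _ e => e

theorem isUnivHomeo_tensor {C D : Type u} [CommRing C] [CommRing D] [Algebra A C] [Algebra A D]
    (hC : FlatMor.IsUnivHomeo (Spec.map (CommRingCat.ofHom (algebraMap A C))))
    (hD : FlatMor.IsUnivHomeo (Spec.map (CommRingCat.ofHom (algebraMap A D)))) :
    FlatMor.IsUnivHomeo (Spec.map (CommRingCat.ofHom (algebraMap A (C ⊗[A] D)))) := by
  have hc : Algebra.IsIntegral A C := ⟨isIntegral_of hC⟩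
  have hd : Algebra.IsIntegral A D := ⟨isIntegral_of hD⟩
  refine isUnivHomeo_of' _ (fun z => ?_) (fun L _ _ g => ?_) fun L _ g h e => ?_
  · induction z using TensorProduct.induction_on with
    | zero => exact isIntegral_zero
    | add a b ha hb => exact IsIntegral.add ha hb
    | tmul c x =>
      have : IsIntegral A ((c ⊗ₜ[A] (1 : D)) * ((1 : C) ⊗ₜ[A] x)) :=
        IsIntegral.mul ((hc.isIntegral c).map (Algebra.TensorProduct.includeLeft : C →ₐ[A] C ⊗[A] D))
          ((hd.isIntegral x).map (Algebra.TensorProduct.includeRight : D →ₐ[A] C ⊗[A] D))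
      rw [Algebra.TensorProduct.tmul_mul_tmul, one_mul, mul_one] at this
      exact this
  · obtain ⟨a, ha⟩ := exists_lift_point hC g
    obtain ⟨b, hb⟩ := exists_lift_point hD g
    letI : Algebra A L := g.toAlgebra
    let a' : C →ₐ[A] L := { a with commutes' := RingHom.congr_fun ha }
    let b' : D →ₐ[A] L := { b with commutes' := RingHom.congr_fun hb }
    exact ⟨(Algebra.TensorProduct.lift a' b' fun _ _ => Commute.all _ _).toRingHom,
      RingHom.ext fun r => (Algebra.TensorProduct.lift a' b' fun _ _ => Commute.all _ _).commutes r⟩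
  · refine Algebra.TensorProduct.ringHom_ext (hom_ext_field hC L _ _ ?_) (hom_ext_field hD L _ _ ?_)
    · exact RingHom.ext fun r => by simpa using RingHom.congr_fun e r
    · refine RingHom.ext fun r => ?_
      have := RingHom.congr_fun e r
      simp only [RingHom.comp_apply] at this ⊢
      convert this using 2 <;>
        exact (AlgHom.commutes (Algebra.TensorProduct.includeRight : D →ₐ[A] C ⊗[A] D) r)

variable (A) in
/-- The product of the geometric points. -/
abbrev Pts : Type u := ∀ p : PrimeSpectrum A, AlgebraicClosure p.asIdeal.ResidueField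

variable (A) in
/-- The evaluation at all points. -/
noncomputable def toPts : A →+* Pts A := RingHom.pi fun p => algebraMap A (AlgebraicClosure p.asIdeal.ResidueField)

variable (A) in
/-- Elements of the product that come from some universal homeomorphism. -/
def awnSet : Set (Pts A) :=
  {x | ∃ (C : Type u) (_ : CommRing C) (ψ : A →+* C) (χ : C →+* Pts A),
    FlatMor.IsUnivHomeo (Spec.map (CommRingCat.ofHom ψ)) ∧ χ.comp ψ = toPts A ∧ x ∈ Set.range χ}

theorem exists_toPts {C : Type u} [CommRing C] {ψ : A →+* C}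
    (hψ : FlatMor.IsUnivHomeo (Spec.map (CommRingCat.ofHom ψ))) : ∃ χ : C →+* Pts A, χ.comp ψ = toPts A := by
  choose f hf using fun p : PrimeSpectrum A =>
    exists_lift_point hψ (algebraMap A (AlgebraicClosure p.asIdeal.ResidueField))
  exact ⟨RingHom.pi f, RingHom.ext fun a => funext fun p => RingHom.congr_fun (hf p) a⟩

theorem toPts_unique {C : Type u} [CommRing C] {ψ : A →+* C}
    (hψ : FlatMor.IsUnivHomeo (Spec.map (CommRingCat.ofHom ψ))) {χ χ' : C →+* Pts A}
    (h : χ.comp ψ = toPts A) (h' : χ'.comp ψ = toPts A) : χ = χ' := by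
  refine RingHom.ext fun c => funext fun p => ?_
  exact RingHom.congr_fun (hom_ext_field hψ _ ((Pi.evalRingHom _ p).comp χ) ((Pi.evalRingHom _ p).comp χ')
    (by rw [RingHom.comp_assoc, RingHom.comp_assoc, h, h'])) c

theorem awn_pair {x y : Pts A} (hx : x ∈ awnSet A) (hy : y ∈ awnSet A) :
    ∃ (C : Type u) (_ : CommRing C) (ψ : A →+* C) (χ : C →+* Pts A),
      FlatMor.IsUnivHomeo (Spec.map (CommRingCat.ofHom ψ)) ∧ χ.comp ψ = toPts A ∧
        x ∈ Set.range χ ∧ y ∈ Set.range χ := by
  obtain ⟨C, _, ψ, χ, hψ, hχ, a, rfl⟩ := hx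
  obtain ⟨D, _, ψ', χ', hψ', hχ', b, rfl⟩ := hy
  letI := ψ.toAlgebra
  letI := ψ'.toAlgebra
  let χa : C →ₐ[A] Pts A := { χ with commutes' := RingHom.congr_fun hχ }
  let χb : D →ₐ[A] Pts A := { χ' with commutes' := RingHom.congr_fun hχ' }
  let L := Algebra.TensorProduct.lift χa χb fun _ _ => Commute.all _ _
  refine ⟨C ⊗[A] D, inferInstance, algebraMap A _, L.toRingHom, isUnivHomeo_tensor hψ hψ',
    RingHom.ext fun r => L.commutes r, ⟨a ⊗ₜ[A] 1, ?_⟩, ⟨1 ⊗ₜ[A] b, ?_⟩⟩ <;> simp [L, χa, χb] <;> rfl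

theorem mem_awnSet_range {C : Type u} [CommRing C] {ψ : A →+* C} {χ : C →+* Pts A}
    (hψ : FlatMor.IsUnivHomeo (Spec.map (CommRingCat.ofHom ψ))) (hχ : χ.comp ψ = toPts A) (c : C) :
    χ c ∈ awnSet A := ⟨C, inferInstance, ψ, χ, hψ, hχ, c, rfl⟩

variable (A) in
/-- The absolute weak normalisation. -/
noncomputable def awn : Subring (Pts A) where
  carrier := awnSet A
  one_mem' := ⟨A, inferInstance, RingHom.id A, toPts A, isUnivHomeo_id, rfl, 1, map_one _⟩
  zero_mem' := ⟨A, inferInstance, RingHom.id A, toPts A, isUnivHomeo_id, rfl, 0, map_zero _⟩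
  add_mem' hx hy := by
    obtain ⟨C, _, ψ, χ, hψ, hχ, ⟨a, rfl⟩, ⟨b, rfl⟩⟩ := awn_pair hx hy
    rw [← map_add]; exact mem_awnSet_range hψ hχ _
  mul_mem' hx hy := by
    obtain ⟨C, _, ψ, χ, hψ, hχ, ⟨a, rfl⟩, ⟨b, rfl⟩⟩ := awn_pair hx hy
    rw [← map_mul]; exact mem_awnSet_range hψ hχ _
  neg_mem' hx := by
    obtain ⟨C, _, ψ, χ, hψ, hχ, a, rfl⟩ := hx
    rw [← map_neg]; exact mem_awnSet_range hψ hχ _

variable (A) in
/-- The map to the absolute weak normalisation. -/
noncomputable def toAwn : A →+* awn A :=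
  (toPts A).codRestrict (awn A) fun a => mem_awnSet_range isUnivHomeo_id rfl a

theorem isUnivHomeo_toAwn : FlatMor.IsUnivHomeo (Spec.map (CommRingCat.ofHom (toAwn A))) := by
  refine isUnivHomeo_of _ ?_ ?_ ?_
  · rintro ⟨x, C, _, ψ, χ, hψ, hχ, c, rfl⟩
    obtain ⟨p, hp, he⟩ := isIntegral_of hψ c
    refine ⟨p, hp, Subtype.val_injective ?_⟩
    show (awn A).subtype _ = 0
    rw [Polynomial.hom_eval₂, show (awn A).subtype.comp (toAwn A) = χ.comp ψ from hχ.symm]
    show Polynomial.eval₂ _ (χ c) p = 0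
    rw [← Polynomial.hom_eval₂, he, map_zero]
  · intro p
    let h : awn A →+* AlgebraicClosure p.asIdeal.ResidueField := (Pi.evalRingHom _ p).comp (awn A).subtype
    haveI := RingHom.ker_isPrime h
    refine ⟨⟨RingHom.ker h, ‹_›⟩, PrimeSpectrum.ext ?_⟩
    show (RingHom.ker h).comap (toAwn A) = p.asIdeal
    rw [RingHom.comap_ker, show h.comp (toAwn A) = algebraMap A (AlgebraicClosure p.asIdeal.ResidueField) from rfl,
      IsScalarTower.algebraMap_eq A p.asIdeal.ResidueField,
      RingHom.ker_comp_of_injective _ (algebraMap p.asIdeal.ResidueField _).injective,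
      Ideal.ker_algebraMap_residueField]
  · intro L _ g g' e
    refine RingHom.ext ?_
    rintro ⟨x, C, _, ψ, χ, hψ, hχ, c, rfl⟩
    let χ' : C →+* awn A := χ.codRestrict (awn A) (mem_awnSet_range hψ hχ)
    have hcomp : χ'.comp ψ = toAwn A := RingHom.ext fun a => Subtype.ext (RingHom.congr_fun hχ a)
    exact RingHom.congr_fun (hom_ext_field hψ L (g.comp χ') (g'.comp χ')
      (by rw [RingHom.comp_assoc, RingHom.comp_assoc, hcomp, e])) c

theorem isRingAWN : HTop.IsRingAWN (toAwn A) := by
  refine ⟨isUnivHomeo_toAwn, fun C _ ψ hψ => ?_⟩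
  obtain ⟨χ, hχ⟩ := exists_toPts hψ
  refine ⟨χ.codRestrict (awn A) (mem_awnSet_range hψ hχ), RingHom.ext fun a => Subtype.ext (RingHom.congr_fun hχ a),
    fun χ' h => RingHom.ext fun c => Subtype.ext ?_⟩
  have := toPts_unique hψ hχ (χ' := (awn A).subtype.comp χ') (RingHom.ext fun a =>
    congrArg Subtype.val (RingHom.congr_fun h a))
  exact (RingHom.congr_fun this c).symm

end Groth.Agent.UnivHomeoRing26
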