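import Groth.Prelude.Def_Flat
import Mathlib.AlgebraicGeometry.Morphisms.Integral
import Mathlib.AlgebraicGeometry.Morphisms.UniversallyInjective
import Mathlib.AlgebraicGeometry.ResidueField
import Mathlib.RingTheory.LocalRing.ResidueField.Ideal
import Mathlib.RingTheory.Spectrum.Prime.RingHom

/-! # Universal homeomorphisms between affine schemes, in terms of rings -/

universe u

open CategoryTheory AlgebraicGeometry

namespace Groth.Agent.UnivHomeoRing26

/-- Integral, surjective on spectra, injective on field-valued points: a universal homeomorphism. -/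
theorem isUnivHomeo_of {A B : Type u} [CommRing A] [CommRing B] (φ : A →+* B) (hint : φ.IsIntegral)
    (hsurj : Function.Surjective (PrimeSpectrum.comap φ))
    (hinj : ∀ (L : Type u) [Field L] (g h : B →+* L), g.comp φ = h.comp φ → g = h) :
    FlatMor.IsUnivHomeo (Spec.map (CommRingCat.ofHom φ)) := by
  haveI : IsIntegralHom (Spec.map (CommRingCat.ofHom φ)) := IsIntegralHom.SpecMap_iff.2 hint
  haveI : Surjective (Spec.map (CommRingCat.ofHom φ)) := ⟨hsurj⟩
  haveI : UniversallyInjective (Spec.map (CommRingCat.ofHom φ)) := by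
    rw [(tfae_universallyInjective _).out 0 1 (a := UniversallyInjective _)]
    intro Ω hΩ a b hab
    letI := hΩ
    obtain ⟨α, rfl⟩ := Spec.map_surjective a
    obtain ⟨β, rfl⟩ := Spec.map_surjective b
    simp only [← Spec.map_comp] at hab
    have hab' := Spec.map_injective hab
    congr 1
    exact CommRingCat.hom_ext (hinj Ω α.hom β.hom (congrArg CommRingCat.Hom.hom hab'))
  intro X' Y' i₁ i₂ f' h
  haveI : IsIntegralHom f' := MorphismProperty.of_isPullback h.flip ‹_›
  haveI : Surjective f' := MorphismProperty.of_isPullback h.flip ‹_›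
  haveI : UniversallyInjective f' := MorphismProperty.of_isPullback h.flip ‹_›
  show IsHomeomorph f'.base
  refine ⟨f'.continuous, fun U hU => ?_, f'.injective, f'.surjective⟩
  rw [← compl_compl U, Set.image_compl_eq ⟨f'.injective, f'.surjective⟩]
  exact (f'.isClosedMap _ hU.isClosed_compl).isOpen_compl

variable {A B : Type u} [CommRing A] [CommRing B] {φ : A →+* B}

theorem bijective_comap (h : FlatMor.IsUnivHomeo (Spec.map (CommRingCat.ofHom φ))) :
    Function.Bijective (PrimeSpectrum.comap φ) :=
  (h _ _ _ IsPullback.of_id_snd).bijective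

theorem isIntegral_of (h : FlatMor.IsUnivHomeo (Spec.map (CommRingCat.ofHom φ))) : φ.IsIntegral := by
  haveI : UniversallyClosed (Spec.map (CommRingCat.ofHom φ)) :=
    ⟨MorphismProperty.universally_mono (fun _ _ f hf => IsHomeomorph.isClosedMap hf) _ h⟩
  exact IsIntegralHom.SpecMap_iff.1 (IsIntegralHom.iff_universallyClosed_and_isAffineHom.2 ⟨‹_›, inferInstance⟩)

theorem hom_ext_field (h : FlatMor.IsUnivHomeo (Spec.map (CommRingCat.ofHom φ))) (L : Type u) [Field L]
    (g g' : B →+* L) (e : g.comp φ = g'.comp φ) : g = g' := by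
  haveI : UniversallyInjective (Spec.map (CommRingCat.ofHom φ)) :=
    ⟨MorphismProperty.universally_mono (fun _ _ f hf => IsHomeomorph.injective hf) _ h⟩
  have hinj := ((tfae_universallyInjective (Spec.map (CommRingCat.ofHom φ))).out 0 1).1 ‹_›
  have := hinj L (a₁ := Spec.map (CommRingCat.ofHom g)) (a₂ := Spec.map (CommRingCat.ofHom g')) (by
    show Spec.map _ ≫ Spec.map _ = Spec.map _ ≫ Spec.map _
    rw [← Spec.map_comp, ← Spec.map_comp, ← CommRingCat.ofHom_comp, ← CommRingCat.ofHom_comp, e])
  exact congrArg CommRingCat.Hom.hom (Spec.map_injective this)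

/-- The map of residue fields of `Spec φ` is the map of residue fields of the primes. -/
theorem residueFieldMap_eq (φ : A →+* B) (x : PrimeSpectrum B) :
    (Scheme.Spec.residueFieldIso (CommRingCat.of A) (Spec.map (CommRingCat.ofHom φ) x)).inv ≫
        (Spec.map (CommRingCat.ofHom φ)).residueFieldMap x ≫ (Scheme.Spec.residueFieldIso (CommRingCat.of B) x).hom =
      CommRingCat.ofHom (Ideal.ResidueField.map (PrimeSpectrum.comap φ x).asIdeal x.asIdeal φ rfl) := by
  refine CommRingCat.hom_ext (Ideal.ResidueField.ringHom_ext (I := (PrimeSpectrum.comap φ x).asIdeal) ?_)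
  refine RingHom.ext fun a => ?_
  have key : CommRingCat.ofHom (algebraMap A (PrimeSpectrum.comap φ x).asIdeal.ResidueField) ≫
      (Scheme.Spec.residueFieldIso (CommRingCat.of A) (Spec.map (CommRingCat.ofHom φ) x)).inv ≫
        (Spec.map (CommRingCat.ofHom φ)).residueFieldMap x =
      CommRingCat.ofHom φ ≫ CommRingCat.ofHom (algebraMap B x.asIdeal.ResidueField) ≫
        (Scheme.Spec.residueFieldIso (CommRingCat.of B) x).inv := by
    erw [Scheme.Spec.algebraMap_residueFieldIso_inv_assoc, Scheme.Spec.algebraMap_residueFieldIso_inv]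
    erw [Scheme.Γevaluation_naturality (Spec.map (CommRingCat.ofHom φ)) x]
    erw [← Scheme.ΓSpecIso_inv_naturality_assoc (CommRingCat.ofHom φ)]
    rfl
  have k2 := congrArg (fun q => q ≫ (Scheme.Spec.residueFieldIso (CommRingCat.of B) x).hom) key
  simp only [Category.assoc, Iso.inv_hom_id, Category.comp_id] at k2
  refine (congr($(k2).hom a)).trans ?_
  exact (Ideal.ResidueField.map_algebraMap _ _ φ rfl a).symm

theorem surjective_residueFieldMap_iff (φ : A →+* B) (x : PrimeSpectrum B) :
    Function.Surjective ((Spec.map (CommRingCat.ofHom φ)).residueFieldMap x).hom ↔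
      Function.Surjective (Ideal.ResidueField.map (PrimeSpectrum.comap φ x).asIdeal x.asIdeal φ rfl) := by
  have e := congrArg (fun q => ⇑(CommRingCat.Hom.hom q)) (residueFieldMap_eq φ x)
  simp only [CommRingCat.hom_comp, RingHom.coe_comp, CommRingCat.hom_ofHom] at e
  rw [show ⇑(Ideal.ResidueField.map (PrimeSpectrum.comap φ x).asIdeal x.asIdeal φ rfl) = _ from e.symm]
  constructor
  · intro hs
    exact ((Scheme.Spec.residueFieldIso (CommRingCat.of B) x).commRingCatIsoToRingEquiv.surjective.comp hs).comp
      (Scheme.Spec.residueFieldIso (CommRingCat.of A) _).symm.commRingCatIsoToRingEquiv.surjective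
  · intro hs
    exact (Function.Surjective.of_comp_left (Function.Surjective.of_comp hs)
      (Scheme.Spec.residueFieldIso (CommRingCat.of B) x).commRingCatIsoToRingEquiv.injective)

theorem residueFieldsIso_of (φ : A →+* B) (h : ∀ Q : PrimeSpectrum B,
      Function.Surjective (Ideal.ResidueField.map (PrimeSpectrum.comap φ Q).asIdeal Q.asIdeal φ rfl)) :
    ∀ y : Spec (CommRingCat.of B), IsIso ((Spec.map (CommRingCat.ofHom φ)).residueFieldMap y) := fun y =>
  (ConcreteCategory.isIso_iff_bijective _).2
    ⟨RingHom.injective _, (surjective_residueFieldMap_iff φ y).2 (h y)⟩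

theorem surjective_of_isIso (φ : A →+* B) (Q : PrimeSpectrum B)
    (h : IsIso ((Spec.map (CommRingCat.ofHom φ)).residueFieldMap Q)) :
    Function.Surjective (Ideal.ResidueField.map (PrimeSpectrum.comap φ Q).asIdeal Q.asIdeal φ rfl) :=
  (surjective_residueFieldMap_iff φ Q).1 ((ConcreteCategory.isIso_iff_bijective _).1 h).2

end Groth.Agent.UnivHomeoRing26
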